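import Cfsg.Agent.H61.S3Auto64
import Cfsg.Agent.H1.Orders

/-!
A Sylow 2-subgroup of `PSL(3,4)` and its table.
-/

set_option autoImplicit false

namespace Cfsg.Agent.H61.L34

open Matrix TwoGroup64

variable {F : Type*} [Field F] [Fintype F]

/-- An upper unitriangular matrix. -/
def um (a b c : F) : SpecialLinearGroup (Fin 3) F :=
  ⟨!![1, a, c; 0, 1, b; 0, 0, 1], by simp [Matrix.det_fin_three]⟩

theorem um_val (a b c : F) :
    ((um a b c : SpecialLinearGroup (Fin 3) F) : Matrix (Fin 3) (Fin 3) F) = !![1, a, c; 0, 1, b; 0, 0, 1] := rfl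

theorem um_eq_iff {a b c a' b' c' : F} : um a b c = um a' b' c' ↔ a = a' ∧ b = b' ∧ c = c' := by
  refine ⟨fun h => ?_, fun h => by rw [h.1, h.2.1, h.2.2]⟩
  have h' := congrArg (fun g : SpecialLinearGroup (Fin 3) F => (g : Matrix (Fin 3) (Fin 3) F)) h
  simp only [um_val] at h'
  exact ⟨by simpa using congrFun (congrFun h' 0) 1, by simpa using congrFun (congrFun h' 1) 2,
    by simpa using congrFun (congrFun h' 0) 2⟩

theorem um_mul (a b c a' b' c' : F) : um a b c * um a' b' c' = um (a + a') (b + b') (c + c' + a * b') := by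
  refine Subtype.ext ?_
  rw [Matrix.SpecialLinearGroup.coe_mul, um_val, um_val, um_val]
  ext i j
  fin_cases i <;> fin_cases j <;> simp [Matrix.mul_apply, Fin.sum_univ_three] <;> ring

theorem um_one : um (0 : F) 0 0 = 1 := by
  refine Subtype.ext ?_
  rw [um_val]
  ext i j
  fin_cases i <;> fin_cases j <;> simp

/-- The unitriangular group. -/
def UT (F : Type*) [Field F] [Fintype F] : Subgroup (SpecialLinearGroup (Fin 3) F) where
  carrier := {g | ∃ a b c, g = um a b c}
  one_mem' := ⟨0, 0, 0, um_one.symm⟩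
  mul_mem' := by
    rintro _ _ ⟨a, b, c, rfl⟩ ⟨a', b', c', rfl⟩
    exact ⟨_, _, _, um_mul a b c a' b' c'⟩
  inv_mem' := by
    rintro _ ⟨a, b, c, rfl⟩
    refine ⟨-a, -b, a * b - c, inv_eq_of_mul_eq_one_right ?_⟩
    rw [um_mul, ← um_one, um_eq_iff]
    exact ⟨by ring, by ring, by ring⟩

/-- An element of the unitriangular group. -/
def ue (a b c : F) : UT F := ⟨um a b c, a, b, c, rfl⟩

theorem ue_mul (a b c a' b' c' : F) : ue a b c * ue a' b' c' = ue (a + a') (b + b') (c + c' + a * b') :=
  Subtype.ext (um_mul a b c a' b' c')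

theorem ue_eq_iff {a b c a' b' c' : F} : ue a b c = ue a' b' c' ↔ a = a' ∧ b = b' ∧ c = c' := by
  exact ⟨fun h => um_eq_iff.1 (congrArg Subtype.val h), fun h => Subtype.ext (um_eq_iff.2 h)⟩

theorem card_UT : Nat.card (UT F) = Fintype.card F ^ 3 := by
  let f : F × F × F → UT F := fun p => ue p.1 p.2.1 p.2.2
  have hf : Function.Bijective f := by
    refine ⟨fun p p' h => ?_, fun g => ?_⟩
    · obtain ⟨h1, h2, h3⟩ := ue_eq_iff.1 h
      exact Prod.ext h1 (Prod.ext h2 h3)
    · obtain ⟨g, a, b, c, rfl⟩ := g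
      exact ⟨(a, b, c), rfl⟩
  rw [← Nat.card_eq_of_bijective f hf, Nat.card_prod, Nat.card_prod, Nat.card_eq_fintype_card]
  ring

variable (hF : Fintype.card F = 4)
include hF

theorem two_eq : (2 : F) = 0 := by
  have h : ((Fintype.card F : ℕ) : F) = 0 := Nat.cast_card_eq_zero F
  rw [hF] at h
  have h' : (2 : F) ^ 2 = 0 := by
    rw [← h]
    norm_num
  exact eq_zero_of_pow_eq_zero h'

theorem exists_omega : ∃ w : F, w * w = w + 1 ∧ w ≠ 0 ∧ w ≠ 1 := by
  classical
  obtain ⟨w, hw⟩ : ∃ w : F, w ∉ ({0, 1} : Finset F) := by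
    by_contra h
    push Not at h
    have := Finset.card_le_card (show (Finset.univ : Finset F) ⊆ {0, 1} from fun v _ => h v)
    rw [Finset.card_univ, hF] at this
    have := Finset.card_le_two (a := (0 : F)) (b := 1)
    omega
  simp only [Finset.mem_insert, Finset.mem_singleton, not_or] at hw
  refine ⟨w, ?_, hw.1, hw.2⟩
  have h3 := FiniteField.pow_card_sub_one_eq_one w hw.1
  rw [hF] at h3
  have : (w - 1) * (w * w + w + 1) = 0 := by
    simp only [show (4 : ℕ) - 1 = 3 from rfl] at h3
    linear_combination h3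
  have h0 := (mul_eq_zero.1 this).resolve_left (sub_ne_zero.2 hw.2)
  linear_combination h0 - (w + 1) * two_eq hF

/-- The table of the unitriangular group. -/
theorem nonempty_pres : Nonempty (Pres (UT F) SThree.table) := by
  classical
  obtain ⟨w, hw, hw0, hw1⟩ := exists_omega hF
  have h2 := two_eq hF
  let bitF : ZMod 2 → F := fun a => if a = 0 then 0 else 1
  let v : ZMod 2 × ZMod 2 → F := fun p => bitF p.1 + bitF p.2 * w
  have hb : ∀ a b : ZMod 2, bitF (a + b) = bitF a + bitF b := by
    intro a b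
    rcases Pres.bit a with rfl | rfl <;> rcases Pres.bit b with rfl | rfl <;>
      simp [bitF, show (1 : ZMod 2) + 1 = 0 from rfl]
    linear_combination -h2
  have hv : ∀ p r, v (p + r) = v p + v r := fun p r => by
    simp only [v, Prod.fst_add, Prod.snd_add, hb]
    ring
  have hvinj : Function.Injective v := by
    have h0 : ∀ p, v p = 0 → p = 0 := by
      rintro ⟨a, b⟩ hp
      rcases Pres.bit a with rfl | rfl <;> rcases Pres.bit b with rfl | rfl
      · rfl
      · simp [v, bitF] at hp
        exact absurd hp hw0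
      · simp [v, bitF] at hp
      · simp [v, bitF] at hp
        exact absurd (show w = 1 by linear_combination hp - h2) hw1
    intro p r h
    have h' : v (p - r) = 0 := by
      have := hv (p - r) r
      rw [sub_add_cancel, h] at this
      linear_combination -this
    exact sub_eq_zero.1 (h0 _ h')
  have hvbij : Function.Bijective v := (Fintype.bijective_iff_injective_and_card v).2 ⟨hvinj, by rw [hF]; rfl⟩
  let f : Multiplicative Val →* UT F :=
    { toFun := fun z => ue 0 0 (v (Multiplicative.toAdd z))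
      map_one' := by
        rw [toAdd_one, show v 0 = 0 by simp [v, bitF]]
        exact Subtype.ext um_one
      map_mul' := fun z z' => by
        rw [ue_mul, ue_eq_iff, toAdd_mul, hv]
        exact ⟨by ring, by ring, by ring⟩ }
  let t : Fin 4 → UT F := ![ue 1 0 0, ue w 0 0, ue 0 1 0, ue 0 w 0]
  have hv00 : v (0, 0) = 0 := by simp [v, bitF]
  have hv10 : v (1, 0) = 1 := by simp [v, bitF]
  have hv01 : v (0, 1) = w := by simp [v, bitF]
  have hv11 : v (1, 1) = 1 + w := by simp [v, bitF]
  have fval : ∀ p : Val, f (Multiplicative.ofAdd p) = ue 0 0 (v p) := fun p => rfl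
  refine ⟨⟨f, t, fun z g => ?_, fun i => ?_, fun i j hij => ?_, ?_, ?_⟩⟩
  · obtain ⟨g, a, b, c, rfl⟩ := g
    show ue 0 0 _ * ue a b c = ue a b c * ue 0 0 _
    rw [ue_mul, ue_mul, ue_eq_iff]
    exact ⟨by ring, by ring, by ring⟩
  · show t i * t i = f (Multiplicative.ofAdd ((0, 0) : Val))
    rw [fval, hv00]
    fin_cases i <;> simp [t, ue_mul, ue_eq_iff, ← two_mul, h2]
  · rw [fval]
    fin_cases i <;> fin_cases j <;>
      simp_all [t, SThree.table, ue_mul, ue_eq_iff]
    all_goals first | ring1 | linear_combination -h2 | linear_combination -w * h2 | linear_combination -(w + 1) * h2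
  · rw [eq_top_iff]
    rintro ⟨g, a, b, c, rfl⟩ -
    set L := Subgroup.closure (Set.range t ∪ Set.range f)
    have gz : ∀ c, ue 0 0 c ∈ L := fun c => by
      obtain ⟨p, rfl⟩ := hvbij.2 c
      exact Subgroup.subset_closure (Or.inr ⟨Multiplicative.ofAdd p, rfl⟩)
    have ga : ∀ a, ∃ c, ue a 0 c ∈ L := fun a => by
      obtain ⟨⟨i, j⟩, rfl⟩ := hvbij.2 a
      have i1 : ue (1 : F) 0 0 ∈ L := Subgroup.subset_closure (Or.inl ⟨0, rfl⟩)
      have i2 : ue w 0 0 ∈ L := Subgroup.subset_closure (Or.inl ⟨1, rfl⟩)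
      refine ⟨0, ?_⟩
      rcases Pres.bit i with rfl | rfl <;> rcases Pres.bit j with rfl | rfl
      · rw [hv00]; exact gz 0
      · rw [hv01]; exact i2
      · rw [hv10]; exact i1
      · rw [hv11]; simpa [ue_mul] using mul_mem i1 i2
    have gb : ∀ b, ue 0 b 0 ∈ L := fun b => by
      obtain ⟨⟨i, j⟩, rfl⟩ := hvbij.2 b
      have i1 : ue (0 : F) 1 0 ∈ L := Subgroup.subset_closure (Or.inl ⟨2, rfl⟩)
      have i2 : ue 0 w 0 ∈ L := Subgroup.subset_closure (Or.inl ⟨3, rfl⟩)
      rcases Pres.bit i with rfl | rfl <;> rcases Pres.bit j with rfl | rfl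
      · rw [hv00]; exact gz 0
      · rw [hv01]; exact i2
      · rw [hv10]; exact i1
      · rw [hv11]; simpa [ue_mul] using mul_mem i1 i2
    obtain ⟨c', hc'⟩ := ga a
    have := mul_mem (mul_mem hc' (gb b)) (gz (c - c' - a * b))
    rw [ue_mul, ue_mul] at this
    simp only [add_zero, zero_add, mul_zero] at this
    rw [show c' + a * b + (c - c' - a * b) = c by ring] at this
    exact this
  · rw [card_UT, hF]
    norm_num

/-- The Sylow 2-subgroups of `PSL(3,4)` are unitriangular groups. -/
theorem nonempty_equiv (S : Sylow 2 (ProjectiveSpecialLinearGroup (Fin 3) F)) :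
    Nonempty (UT F ≃* (S : Subgroup (ProjectiveSpecialLinearGroup (Fin 3) F))) := by
  classical
  have : Fact (Nat.Prime 2) := ⟨Nat.prime_two⟩
  let π : UT F →* ProjectiveSpecialLinearGroup (Fin 3) F :=
    (QuotientGroup.mk' (Subgroup.center (SpecialLinearGroup (Fin 3) F))).comp (UT F).subtype
  have hinj : Function.Injective π := by
    rw [← MonoidHom.ker_eq_bot_iff, eq_bot_iff]
    rintro ⟨g, a, b, c, rfl⟩ hg
    have hg' : um a b c ∈ Subgroup.center (SpecialLinearGroup (Fin 3) F) := (QuotientGroup.eq_one_iff _).1 hg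
    obtain ⟨r, -, hr⟩ := Matrix.SpecialLinearGroup.mem_center_iff.1 hg'
    rw [um_val] at hr
    have h1 := congrFun (congrFun hr 0) 1
    have h2 := congrFun (congrFun hr 1) 2
    have h3 := congrFun (congrFun hr 0) 2
    simp at h1 h2 h3
    rw [Subgroup.mem_bot]
    refine Subtype.ext ?_
    show um a b c = 1
    rw [← um_one, um_eq_iff]
    exact ⟨h1.symm, h2.symm, h3.symm⟩
  have hp : IsPGroup 2 π.range :=
    (IsPGroup.of_card (n := 6) (by rw [card_UT, hF]; norm_num) : IsPGroup 2 (UT F)).of_equiv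
      (MonoidHom.ofInjective hinj)
  have hPSL : Nat.card (ProjectiveSpecialLinearGroup (Fin 3) F) = 20160 := by
    have h1 := H1.sub_one_mul_card_SL hF 3 (by norm_num)
    have h2 := H1.gcd_mul_card_PSL (ι := Fin 3) (F := F)
    rw [H1.natCard_units hF, Fintype.card_fin] at h2
    simp only [Fin.prod_univ_three] at h1
    norm_num at h1 h2
    rw [Nat.card_eq_fintype_card]
    omega
  have hidx : ¬ 2 ∣ π.range.index := by
    have h := π.range.card_mul_index
    rw [hPSL, ← Nat.card_congr (MonoidHom.ofInjective hinj).toEquiv, card_UT, hF] at h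
    omega
  exact ⟨(MonoidHom.ofInjective hinj).trans ((hp.toSylow hidx).equiv S)⟩

end Cfsg.Agent.H61.L34
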