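import Mathlib.Data.List.Basic

/-!
Tables for a homomorphism from `SL(2,7)` to `SU(3,3)`: entries of `F₉ = F₃[α]`, `α² = 2α + 1`,
are coded as `a + 3b` for `a + bα`.
-/

namespace Cfsg.Agent.H61.PSUThree

/-- The elements of `SL(2,7)`, in breadth-first order. -/
def elts : List (ℕ × ℕ × ℕ × ℕ) :=
  [(1,0,0,1),(1,1,0,1),(0,6,1,0),(1,2,0,1),(0,6,1,1),(1,6,1,0),(6,0,0,6),(1,3,0,1),(0,6,1,2),(1,0,1,1),(6,6,0,6),(2,6,1,0),(6,0,1,6),(0,1,6,0),(1,4,0,1),(0,6,1,3),(1,1,1,2),(6,5,0,6),(2,1,1,1),(6,6,1,0),(0,1,6,6),(3,6,1,0),(6,0,2,6),(0,6,1,6),(6,1,6,0),(1,5,0,1),(0,6,1,4),(1,2,1,3),(6,4,0,6),(2,3,1,2),(6,5,1,1),(0,1,6,5),(3,2,1,1),(6,6,2,1),(6,0,6,6),(4,6,1,0),(6,0,3,6),(1,6,2,6),(5,1,6,0),(1,5,1,6),(6,1,0,6),(1,0,6,1),(1,6,0,1),(0,6,1,5),(1,3,1,4),(6,3,0,6),(2,5,1,3),(6,4,1,2),(0,1,6,4),(3,5,1,2),(6,5,2,3),(6,6,6,5),(4,3,1,1),(6,6,3,2),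(1,0,2,1),(5,6,6,6),(1,1,6,0),(5,6,1,0),(6,0,4,6),(2,6,3,6),(4,1,6,0),(3,5,2,6),(5,1,1,6),(1,0,5,1),(2,4,1,6),(6,1,1,5),(0,1,6,1),(1,4,1,5),(6,2,0,6),(2,0,1,4),(6,3,1,3),(0,1,6,3),(3,1,1,3),(6,4,2,5),(6,5,6,4),(4,0,1,2),(6,5,3,5),(1,1,2,3),(5,4,6,5),(1,2,6,6),(5,4,1,1),(6,6,4,3),(2,1,3,2),(4,5,6,6),(3,1,2,1),(1,1,5,6),(6,0,5,6),(3,6,4,6),(3,1,6,0),(5,5,3,6),(4,1,2,6),(1,0,4,1),(5,4,2,6),(5,1,3,5),(6,1,5,1),(3,3,1,6),(6,1,2,4),(6,2,6,1),(2,2,1,5),(6,2,1,4),(0,1,6,2),(3,4,1,4),(6,3,2,0),(6,4,6,3),(4,4,1,3),(6,4,3,1),(1,2,2,5),(5,2,6,4),(1,3,6,5),(5,2,1,2),(6,5,4,0),(2,3,3,5),(4,2,6,5),(3,4,2,3),(1,2,5,4),(6,6,5,4),(3,2,4,3),(3,4,6,6),(5,3,3,2),(4,5,2,1),(1,1,4,5),(5,2,2,1),(5,6,3,1),(4,6,5,6),(2,1,6,0),(0,5,4,6),(3,1,3,6),(1,0,3,1),(1,4,3,6),(4,1,5,5),(5,1,4,1),(0,3,2,6),(5,1,5,4),(1,6,3,5),(4,2,5,1),(2,6,6,1),(4,2,1,6),(6,1,3,3),(1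,5,2,4),(5,3,6,1),(1,6,6,2),(3,0,1,5),(6,2,2,2),(6,3,6,2),(4,1,1,4),(6,3,3,4),(1,3,2,0),(5,0,6,3),(1,4,6,4),(5,0,1,3),(6,4,4,4),(2,5,3,1),(4,6,6,4),(3,0,2,5),(1,3,5,2),(6,5,5,2),(3,5,4,0),(3,0,6,5),(4,2,2,3),(1,2,4,2),(5,0,2,3),(5,4,3,4),(4,3,5,4),(2,3,6,6),(0,5,4,3),(3,4,3,2),(1,1,3,4),(1,5,3,2),(4,5,5,3),(5,6,4,5),(0,3,2,1),(5,6,5,2),(2,5,5,6),(2,1,4,6),(4,4,4,6),(3,1,0,5),(4,1,3,1),(4,3,3,6),(2,6,5,5),(2,2,4,1),(3,6,5,1),(2,2,2,6),(5,1,0,3),(3,5,5,4),(2,3,5,1),(4,4,3,5),(2,6,4,2),(6,1,4,2),(2,4,3,3),(4,4,6,1),(3,2,2,4),(5,3,1,5),(1,6,5,3),(4,5,1,5),(6,2,3,0),(1,4,2,2),(5,5,6,2),(1,5,6,3),(5,5,1,4),(6,3,4,1),(2,0,3,4),(4,3,6,3),(3,3,2,0),(1,4,5,0),(6,4,5,0),(3,1,4,4),(3,3,6,4),(4,6,2,5),(1,3,4,6),(5,5,2,5),(5,2,3,0),(4,0,5,2),(2,5,6,5),(0,5,4,0),(3,0,3,5),(1,2,3,0),(5,4,4,2),(0,3,2,3),(5,4,5,0),(2,0,5,4),(2,3,4,3),(4,1,4,3),(3,4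,0,5),(4,5,3,4),(4,0,3,2),(2,1,5,3),(2,4,4,5),(3,2,5,6),(2,4,2,1),(5,6,0,3),(3,1,5,2),(0,4,5,6),(2,1,2,5),(3,6,0,5),(0,2,3,1),(4,6,4,1),(0,2,3,6),(0,4,5,5),(3,6,2,2),(5,1,2,2),(5,4,0,3),(0,4,5,1),(2,6,2,3),(0,2,3,5),(4,2,4,4),(3,3,4,2),(3,5,6,1),(5,0,3,3),(4,4,2,4),(1,6,4,4),(5,6,2,4),(6,2,5,3),(6,2,4,5),(2,2,3,0),(4,0,6,2),(1,5,5,5),(6,3,5,5),(3,4,4,1),(3,6,6,3),(4,3,2,0),(1,4,4,3),(5,3,2,0),(4,4,5,0),(2,0,6,4),(0,5,4,4),(3,3,3,1),(1,3,3,3),(5,2,4,6),(0,3,2,5),(5,2,5,5),(2,2,5,2),(2,5,4,0),(4,5,4,0),(3,0,0,5),(4,2,3,0),(3,4,5,0),(0,4,5,4),(2,3,2,0),(3,2,0,5),(0,2,3,4),(4,3,4,5),(0,2,3,2),(0,4,5,3),(5,2,0,3),(5,3,5,6),(2,1,0,4),(4,6,0,2),(4,1,0,2),(2,2,0,4),(0,3,2,2),(5,5,5,1),(5,0,0,3),(2,6,0,4),(4,2,0,2),(0,5,4,2),(3,5,3,3),(5,3,4,4),(0,3,2,4),(2,4,6,2),(3,0,4,5),(3,2,6,2),(4,0,2,2),(1,5,4,0),(2,2,6,3),(0,5,4,1),(3,6,3,4),(5,0,4,3),(0,3,2,0),(5,0,5,3),(2,4,5,0),(2,0,4,4),(3,3,0,5),(4,6,3,3),(3,0,5,5),(0,4,5,2),(2,5,2,2),(3,5,0,5),(0,2,3,0),(4,0,4,2),(2,3,0,4),(4,3,0,2),(4,5,0,2),(2,4,0,4),(5,5,0,3),(2,5,0,4),(5,3,0,3),(0,4,5,0),(4,4,0,2),(3,3,5,3),(2,0,2,4),(0,5,4,5),(3,2,3,0),(5,5,4,0),(0,2,3,3),(4,0,0,2),(2,0,0,4)]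

/-- Their images in `SU(3,3)` (part 0). -/
def imgs0 : List (List ℕ) :=
  [[1,0,0,0,1,0,0,0,1],
    [3,1,1,0,4,8,6,1,1],
    [1,3,1,8,0,4,1,6,1],
    [4,8,0,1,1,3,2,2,3],
    [0,0,1,1,0,0,0,1,0],
    [0,4,8,3,1,1,3,2,2],
    [1,0,0,0,1,0,0,0,1],
    [1,2,6,8,8,0,2,1,6],
    [6,1,1,3,1,1,0,4,8],
    [1,1,3,4,8,0,1,1,6],
    [3,1,1,0,4,8,6,1,1],
    [6,1,2,0,8,8,6,2,1],
    [1,6,1,1,3,1,8,0,4],
    [1,3,1,8,0,4,1,6,1],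
    [1,3,2,2,3,1,4,0,4],
    [2,2,3,4,8,0,1,1,3],
    [8,8,0,1,2,6,1,2,3],
    [4,8,0,1,1,3,2,2,3],
    [8,0,4,1,3,1,2,3,2],
    [0,1,0,0,0,1,1,0,0],
    [0,0,1,1,0,0,0,1,0],
    [2,1,3,1,2,3,4,4,0],
    [3,2,2,0,4,8,3,1,1],
    [0,8,8,6,1,2,3,1,2],
    [0,4,8,3,1,1,3,2,2],
    [6,1,2,3,1,2,0,8,8],
    [2,1,6,1,2,6,8,8,0],
    [2,3,1,1,3,2,8,0,8],
    [1,2,6,8,8,0,2,1,6],
    [1,0,0,0,0,1,0,2,0],
    [0,4,8,6,1,1,3,1,1],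
    [6,1,1,3,1,1,0,4,8],
    [2,6,1,8,0,8,1,6,2],
    [1,1,6,1,1,3,4,8,0],
    [1,1,3,4,8,0,1,1,6],
    [2,6,1,2,3,1,8,0,8],
    [6,2,1,6,1,2,0,8,8],
    [1,2,3,2,1,3,8,8,0],
    [6,1,2,0,8,8,6,2,1],
    [0,1,0,1,0,0,0,0,2],
    [8,0,4,1,6,1,1,3,1],
    [1,6,1,1,3,1,8,0,4],
    [8,0,4,1,6,1,1,3,1],
    [4,0,4,1,3,2,2,3,1],
    [3,1,2,6,1,2,0,4,4],
    [1,3,2,2,3,1,4,0,4],
    [3,1,1,6,1,1,0,8,4],
    [1,1,3,2,2,3,4,8,0]]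

/-- Their images in `SU(3,3)` (part 1). -/
def imgs1 : List (List ℕ) :=
  [[2,2,3,4,8,0,1,1,3],
    [3,2,1,0,4,4,6,2,1],
    [1,2,3,8,8,0,1,2,6],
    [8,8,0,1,2,6,1,2,3],
    [3,2,1,3,1,2,0,4,4],
    [2,3,2,8,0,4,1,3,1],
    [8,0,8,2,6,1,2,3,1],
    [8,0,4,1,3,1,2,3,2],
    [0,1,0,0,0,1,1,0,0],
    [4,8,0,1,1,6,1,1,3],
    [4,4,0,2,1,3,1,2,3],
    [2,3,1,2,6,1,4,0,4],
    [2,1,3,1,2,3,4,4,0],
    [1,3,1,1,6,1,4,0,8],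
    [3,1,1,3,2,2,0,4,8],
    [3,2,2,0,4,8,3,1,1],
    [1,3,2,4,0,4,1,6,2],
    [3,1,2,0,8,8,6,1,2],
    [0,8,8,6,1,2,3,1,2],
    [1,6,1,8,0,4,2,6,2],
    [6,1,2,3,1,2,0,8,8],
    [4,8,0,2,2,3,2,2,6],
    [8,8,0,2,1,6,1,2,6],
    [2,1,6,1,2,6,8,8,0],
    [4,0,8,2,6,2,2,3,2],
    [8,0,8,2,3,1,1,3,2],
    [2,3,1,1,3,2,8,0,8],
    [4,0,8,1,6,1,2,6,2],
    [0,2,0,1,0,0,0,0,1],
    [0,4,4,3,2,1,3,1,2],
    [1,0,0,0,0,1,0,2,0],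
    [0,4,8,6,1,1,3,1,1],
    [1,2,6,1,2,3,8,8,0],
    [1,6,2,2,6,1,8,0,8],
    [3,1,2,3,2,1,0,8,8],
    [2,6,1,8,0,8,1,6,2],
    [0,0,1,0,1,0,2,0,0],
    [1,1,6,1,1,3,4,8,0],
    [8,0,8,2,6,1,2,3,1],
    [1,1,6,4,8,0,2,2,6],
    [2,6,1,2,3,1,8,0,8],
    [0,4,8,3,2,2,6,2,2],
    [0,8,8,6,2,1,6,1,2],
    [6,2,1,6,1,2,0,8,8],
    [8,4,0,2,2,6,2,2,3],
    [8,8,0,1,2,3,2,1,3],
    [1,2,3,2,1,3,8,8,0],
    [8,4,0,1,1,6,2,2,6]]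

/-- Their images in `SU(3,3)` (part 2). -/
def imgs2 : List (List ℕ) :=
  [[0,0,2,0,1,0,1,0,0],
    [0,1,0,1,0,0,0,0,2],
    [1,2,6,2,1,6,4,4,0],
    [2,3,1,4,0,4,1,3,2],
    [4,0,4,1,3,2,2,3,1],
    [2,0,0,0,0,2,0,2,0],
    [0,4,4,3,1,2,6,1,2],
    [3,1,2,6,1,2,0,4,4],
    [2,0,0,0,1,0,0,0,2],
    [0,8,4,3,1,1,6,1,1],
    [2,6,2,4,0,8,1,6,1],
    [3,1,1,6,1,1,0,8,4],
    [1,1,3,2,2,3,4,8,0],
    [1,3,2,8,0,8,2,3,1],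
    [6,2,1,3,2,1,0,4,4],
    [1,6,1,4,0,8,1,3,1],
    [3,2,1,0,4,4,6,2,1],
    [6,1,1,0,4,8,6,2,2],
    [1,2,3,8,8,0,1,2,6],
    [0,4,4,3,2,1,3,1,2],
    [1,2,3,1,2,6,4,4,0],
    [3,2,1,3,1,2,0,4,4],
    [1,1,3,1,1,6,8,4,0],
    [1,3,1,2,3,2,8,0,4],
    [2,3,2,8,0,4,1,3,1],
    [2,1,3,4,4,0,2,1,6],
    [2,3,1,8,0,8,2,6,1],
    [0,0,1,0,1,0,2,0,0],
    [4,8,0,1,1,6,1,1,3],
    [6,1,2,6,2,1,0,4,4],
    [1,2,3,4,4,0,2,1,3],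
    [4,4,0,2,1,3,1,2,3],
    [0,2,0,2,0,0,0,0,2],
    [4,0,4,2,3,1,2,6,1],
    [2,3,1,2,6,1,4,0,4],
    [0,2,0,0,0,1,2,0,0],
    [4,0,8,1,3,1,1,6,1],
    [2,2,6,8,4,0,1,1,6],
    [1,3,1,1,6,1,4,0,8],
    [3,1,1,3,2,2,0,4,8],
    [2,1,3,8,8,0,1,2,3],
    [1,6,2,1,3,2,4,0,4],
    [1,1,6,8,4,0,1,1,3],
    [1,3,2,4,0,4,1,6,2],
    [3,1,2,0,8,8,6,1,2],
    [6,2,2,3,2,2,0,8,4],
    [2,6,2,1,6,1,8,0,4],
    [1,6,1,8,0,4,2,6,2]]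

/-- Their images in `SU(3,3)` (part 3). -/
def imgs3 : List (List ℕ) :=
  [[6,2,2,0,4,8,3,2,2],
    [2,2,6,4,8,0,2,2,3],
    [0,0,2,2,0,0,0,1,0],
    [4,8,0,2,2,3,2,2,6],
    [8,8,0,2,1,6,1,2,6],
    [6,1,2,0,4,4,3,1,2],
    [2,3,2,4,0,8,2,6,2],
    [0,1,0,2,0,0,0,0,1],
    [4,0,8,2,6,2,2,3,2],
    [2,2,3,1,1,3,8,4,0],
    [8,0,8,2,3,1,1,3,2],
    [2,6,2,4,0,8,1,6,1],
    [8,0,8,1,3,2,1,6,2],
    [4,0,8,1,6,1,2,6,2],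
    [0,0,1,0,2,0,1,0,0],
    [0,2,0,1,0,0,0,0,1],
    [2,6,1,1,6,2,4,0,4],
    [3,1,2,0,4,4,3,2,1],
    [6,1,1,0,4,8,6,2,2],
    [1,2,6,1,2,3,8,8,0],
    [8,0,4,2,3,2,2,6,2],
    [8,0,8,1,6,2,2,6,1],
    [1,6,2,2,6,1,8,0,8],
    [0,8,4,6,2,2,3,2,2],
    [0,8,8,3,1,2,3,2,1],
    [3,1,2,3,2,1,0,8,8],
    [0,8,4,6,1,1,6,2,2],
    [2,0,0,0,0,1,0,1,0],
    [2,1,3,4,4,0,2,1,6],
    [2,3,1,8,0,8,2,6,1],
    [2,6,2,2,3,2,4,0,8],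
    [2,2,6,1,1,6,4,8,0],
    [1,1,6,4,8,0,2,2,6],
    [2,6,2,8,0,4,2,3,2],
    [2,0,0,0,2,0,0,0,1],
    [0,4,8,3,2,2,6,2,2],
    [0,8,8,6,2,1,6,1,2],
    [2,6,1,4,0,4,2,3,1],
    [2,2,3,8,4,0,2,2,6],
    [0,0,1,0,2,0,1,0,0],
    [8,4,0,2,2,6,2,2,3],
    [3,2,2,3,1,1,0,8,4],
    [8,8,0,1,2,3,2,1,3],
    [2,2,6,8,4,0,1,1,6],
    [8,8,0,2,1,3,2,1,6],
    [8,4,0,1,1,6,2,2,6],
    [0,8,8,3,1,2,3,2,1],
    [1,0,0,0,0,2,0,1,0]]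

/-- Their images in `SU(3,3)` (part 4). -/
def imgs4 : List (List ℕ) :=
  [[0,0,2,0,1,0,1,0,0],
    [8,4,0,1,1,3,1,1,6],
    [4,4,0,1,2,6,2,1,6],
    [3,2,2,6,2,2,0,4,8],
    [1,2,6,2,1,6,4,4,0],
    [2,3,1,4,0,4,1,3,2],
    [8,0,4,2,6,2,1,6,1],
    [0,2,0,2,0,0,0,0,2],
    [0,4,8,6,2,2,6,1,1],
    [2,0,0,0,0,2,0,2,0],
    [2,1,6,8,8,0,2,1,3],
    [0,4,4,3,1,2,6,1,2],
    [0,0,2,2,0,0,0,1,0],
    [0,4,4,6,1,2,6,2,1],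
    [2,0,0,0,1,0,0,0,2],
    [6,1,1,0,8,4,3,1,1],
    [0,8,4,3,1,1,6,1,1],
    [3,2,1,6,2,1,0,8,8],
    [1,6,1,2,6,2,4,0,8],
    [2,2,3,1,1,3,8,4,0],
    [1,3,2,8,0,8,2,3,1],
    [1,0,0,0,2,0,0,0,2],
    [0,4,4,6,2,1,3,2,1],
    [6,2,1,3,2,1,0,4,4],
    [1,6,1,4,0,8,1,3,1],
    [2,2,6,2,2,3,8,4,0],
    [6,2,2,6,1,1,0,4,8],
    [2,6,1,1,6,2,4,0,4],
    [3,1,2,0,4,4,3,2,1],
    [0,0,2,0,2,0,2,0,0],
    [4,4,0,1,2,3,1,2,6],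
    [1,2,3,1,2,6,4,4,0],
    [0,0,2,1,0,0,0,2,0],
    [6,2,2,0,8,4,6,1,1],
    [1,1,3,1,1,6,8,4,0],
    [1,3,1,2,3,2,8,0,4],
    [3,2,1,0,8,8,3,1,2],
    [2,1,6,2,1,3,4,4,0],
    [6,1,1,0,8,4,3,1,1],
    [0,8,4,6,1,1,6,2,2],
    [2,0,0,0,0,1,0,1,0],
    [2,3,2,2,6,2,8,0,4],
    [6,1,2,6,2,1,0,4,4],
    [1,2,3,4,4,0,2,1,3],
    [4,8,0,2,2,6,1,1,6],
    [6,2,1,0,8,8,3,2,1],
    [4,0,4,2,3,1,2,6,1],
    [2,0,0,0,2,0,0,0,1]]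

/-- Their images in `SU(3,3)` (part 5). -/
def imgs5 : List (List ℕ) :=
  [[4,0,4,2,6,1,1,6,2],
    [0,2,0,0,0,1,2,0,0],
    [4,0,8,1,3,1,1,6,1],
    [1,3,2,1,6,2,8,0,8],
    [1,1,6,2,2,6,8,4,0],
    [3,2,2,3,1,1,0,8,4],
    [2,1,3,8,8,0,1,2,3],
    [0,1,0,0,0,2,2,0,0],
    [4,0,4,1,6,2,1,3,2],
    [1,6,2,1,3,2,4,0,4],
    [6,2,2,0,8,4,6,1,1],
    [1,1,6,8,4,0,1,1,3],
    [0,8,4,6,2,2,3,2,2],
    [1,1,3,8,4,0,2,2,3],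
    [6,2,2,3,2,2,0,8,4],
    [2,6,2,1,6,1,8,0,4],
    [3,2,2,6,2,2,0,4,8],
    [2,6,2,8,0,4,2,3,2],
    [6,2,2,0,4,8,3,2,2],
    [2,2,3,2,2,6,4,8,0],
    [2,2,6,4,8,0,2,2,3],
    [4,0,8,2,3,2,1,3,1],
    [2,1,6,8,8,0,2,1,3],
    [6,1,2,0,4,4,3,1,2],
    [3,1,1,0,8,4,3,2,2],
    [2,6,2,2,3,2,4,0,8],
    [2,3,2,4,0,8,2,6,2],
    [0,1,0,2,0,0,0,0,1],
    [4,4,0,2,1,6,2,1,3],
    [8,4,0,2,2,3,1,1,3],
    [3,2,1,6,2,1,0,8,8],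
    [1,6,1,2,6,2,4,0,8],
    [3,2,2,0,8,4,6,2,2],
    [1,6,2,8,0,8,1,3,2],
    [8,0,8,1,3,2,1,6,2],
    [2,2,3,2,2,6,4,8,0],
    [2,2,6,2,2,3,8,4,0],
    [6,2,2,6,1,1,0,4,8],
    [0,2,0,0,0,2,1,0,0],
    [8,0,4,2,3,2,2,6,2],
    [8,0,8,1,6,2,2,6,1],
    [1,2,6,4,4,0,1,2,3],
    [2,3,2,1,3,1,4,0,8],
    [0,8,8,3,2,1,6,2,1],
    [3,2,1,0,8,8,3,1,2],
    [2,1,6,2,1,3,4,4,0],
    [2,2,6,1,1,6,4,8,0],
    [2,3,2,2,6,2,8,0,4]]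

/-- Their images in `SU(3,3)` (part 6). -/
def imgs6 : List (List ℕ) :=
  [[0,0,1,2,0,0,0,2,0],
    [6,2,1,0,8,8,3,2,1],
    [2,6,1,4,0,4,2,3,1],
    [1,3,1,4,0,8,2,3,2],
    [2,2,3,8,4,0,2,2,6],
    [0,8,4,3,2,2,3,1,1],
    [1,3,2,1,6,2,8,0,8],
    [1,1,6,2,2,6,8,4,0],
    [8,8,0,2,1,3,2,1,6],
    [2,3,2,1,3,1,4,0,8],
    [1,0,0,0,0,2,0,1,0],
    [0,0,2,1,0,0,0,2,0],
    [8,4,0,1,1,3,1,1,6],
    [2,1,6,4,4,0,1,2,6],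
    [4,4,0,1,2,6,2,1,6],
    [8,0,4,2,6,2,1,6,1],
    [4,8,0,2,2,6,1,1,6],
    [0,0,2,0,2,0,2,0,0],
    [0,4,8,6,2,2,6,1,1],
    [1,6,2,4,0,4,2,6,1],
    [2,1,3,2,1,6,8,8,0],
    [4,0,8,2,3,2,1,3,1],
    [0,1,0,0,0,2,2,0,0],
    [6,2,1,0,4,4,6,1,2],
    [0,4,4,6,1,2,6,2,1],
    [2,1,6,4,4,0,1,2,6],
    [4,4,0,2,1,6,2,1,3],
    [8,4,0,2,2,3,1,1,3],
    [0,8,4,3,2,2,3,1,1],
    [1,0,0,0,2,0,0,0,2],
    [0,4,4,6,2,1,3,2,1],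
    [4,0,4,2,6,1,1,6,2],
    [4,4,0,1,2,3,1,2,6],
    [0,2,0,0,0,2,1,0,0],
    [6,1,1,6,2,2,0,8,4],
    [0,0,1,2,0,0,0,2,0],
    [0,8,8,3,2,1,6,2,1],
    [6,1,1,6,2,2,0,8,4],
    [1,6,2,4,0,4,2,6,1],
    [6,2,1,0,4,4,6,1,2],
    [4,0,4,1,6,2,1,3,2],
    [2,1,3,2,1,6,8,8,0],
    [1,2,6,4,4,0,1,2,3],
    [3,2,2,0,8,4,6,2,2],
    [1,1,3,8,4,0,2,2,3],
    [3,1,1,0,8,4,3,2,2],
    [1,6,2,8,0,8,1,3,2],
    [1,3,1,4,0,8,2,3,2]]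

/-- Their images in `SU(3,3)`. -/
def imgs : List (List ℕ) :=
  imgs0 ++ imgs1 ++ imgs2 ++ imgs3 ++ imgs4 ++ imgs5 ++ imgs6

/-- The positions, by normal form. -/
def posTbl : List ℕ :=
  [0,1,3,7,14,25,42,335,285,288,319,322,324,292,273,175,278,311,222,316,233,334,287,293,320,327,321,286,291,182,283,325,240,323,229,6,40,68,45,28,17,10,2,4,8,15,26,43,23,5,9,16,27,44,67,39,11,18,29,46,69,98,64,21,32,49,72,101,141,95,35,52,75,104,144,193,136,57,80,109,149,198,191,62,19,30,47,70,99,65,12,307,170,289,217,297,268,131,146,54,195,77,138,106,37,277,228,315,242,329,232,181,202,84,238,113,190,153,61,259,119,301,158,248,207,90,261,121,239,160,250,209,92,102,33,142,50,96,73,22,317,234,281,333,279,243,236,215,127,167,266,166,133,128,253,151,82,188,200,111,59,331,265,165,295,305,214,126,274,176,224,312,223,185,177,210,122,118,247,161,93,89,19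4,105,53,137,145,76,36,213,304,294,164,264,330,125,302,91,159,260,249,120,208,271,179,186,220,310,226,173,156,257,245,116,205,299,87,272,235,318,221,244,280,174,332,130,216,306,296,169,267,110,199,187,81,150,252,58,326,241,314,282,276,237,231,203,63,154,192,114,255,85,309,184,270,225,219,178,172,275,180,230,328,183,313,227,262,134,211,168,162,129,123,218,290,171,308,132,269,284,204,94,155,251,115,256,86,13,66,100,71,48,31,20,56,41,140,197,148,108,79,124,135,298,303,263,212,163,88,246,300,258,206,157,117,60,189,254,201,152,112,83,38,139,196,147,107,78,55,24,97,143,103,74,51,34]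

/-- Left multiplication by the generator 0. -/
def mulU : List ℕ :=
  [1,3,5,7,9,11,10,14,16,18,17,21,23,24,25,27,29,28,32,2,34,35,37,39,38,42,44,46,45,49,4,51,52,54,55,57,59,61,60,64,6,66,0,67,69,68,72,8,74,75,77,78,80,82,84,83,13,19,87,89,88,92,12,94,95,43,97,98,40,101,15,103,104,106,107,109,111,113,112,20,30,116,118,117,121,86,123,125,124,128,22,130,131,133,134,136,138,139,141,26,143,144,146,147,149,151,153,152,31,47,156,93,157,160,115,162,164,163,167,33,169,170,127,172,56,174,36,176,177,178,179,181,183,185,184,41,62,188,190,189,100,193,195,196,198,200,202,201,48,70,205,122,206,209,155,211,213,212,50,216,217,166,219,79,221,53,223,224,225,226,228,230,231,58,208,233,234,236,237,199,63,90,240,114,241,243,187,245,247,246,250,65,251,191,253,238,254,71,99,257,161,258,261,204,262,264,263,73,267,268,215,270,108,272,76,274,186,242,275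,276,81,260,278,279,281,282,252,85,119,283,154,284,207,222,265,91,126,269,239,289,291,290,158,214,249,294,135,266,96,296,297,168,299,210,300,256,129,304,303,102,306,307,309,148,244,105,312,173,232,313,314,110,302,316,317,203,132,259,273,305,120,165,308,323,227,324,287,320,292,315,180,325,319,327,318,137,310,329,140,330,298,142,332,197,235,145,220,277,328,326,150,175,333,255,171,301,311,331,159,335,321,334,285,182,288,229,218,286,192,248,280,194,271,295,293,322]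

/-- Left multiplication by the generator 1. -/
def mulW : List ℕ :=
  [2,4,6,8,10,12,13,15,17,19,20,22,24,0,26,28,30,31,33,34,1,36,38,40,41,43,45,47,48,50,51,3,53,55,56,58,60,62,63,65,66,5,23,68,70,71,73,74,7,76,78,79,81,83,57,85,9,86,88,90,91,93,94,11,96,97,42,99,100,102,103,14,105,107,108,110,112,80,114,16,115,117,119,120,122,18,124,126,127,129,130,21,132,134,135,137,139,140,142,143,25,145,147,148,150,152,109,154,27,155,157,158,159,161,29,163,165,166,168,169,32,171,123,173,54,175,176,35,144,179,180,182,184,136,186,37,187,189,191,192,39,194,196,197,199,201,149,203,44,204,206,207,208,210,46,212,214,215,216,49,218,162,220,77,222,223,52,193,226,227,229,172,232,84,205,234,235,221,181,238,59,239,241,111,242,244,61,246,248,249,118,251,64,252,254,198,255,67,256,258,259,260,247,69,263,265,266,267,72,269,211,271,106,273,274,75,183,240,2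19,277,113,257,279,280,272,228,190,82,250,231,151,285,121,236,286,87,287,288,89,290,276,292,92,293,245,295,133,262,296,95,284,298,300,301,302,98,303,305,128,306,101,308,310,146,311,312,104,230,283,270,315,153,299,317,318,200,319,160,281,320,116,321,322,314,225,170,125,304,289,323,178,326,131,294,316,185,328,325,138,331,167,332,141,195,233,177,275,291,309,329,202,333,174,253,324,209,243,334,156,217,164,330,297,237,268,282,335,264,188,261,278,224,313,327,213,307]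

/-- The breadth-first parents. -/
def parents : List (Bool × ℕ) :=
  [(false,0),(false,0),(true,0),(false,1),(true,1),(false,2),(true,2),(false,3),(true,3),(false,4),(true,4),(false,5),(true,5),(true,6),(false,7),(true,7),(false,8),(true,8),(false,9),(true,9),(true,10),(false,11),(true,11),(false,12),(true,12),(false,14),(true,14),(false,15),(true,15),(false,16),(true,16),(true,17),(false,18),(true,18),(true,19),(false,21),(true,21),(false,22),(true,22),(false,23),(true,23),(true,24),(false,25),(true,25),(false,26),(true,26),(false,27),(true,27),(true,28),(false,29),(true,29),(true,30),(false,32),(true,32),(false,33),(true,33),(true,34),(false,35),(true,35),(false,36),(true,36),(false,37),(true,37),(true,38),(false,39),(true,39),(true,40),(false,43),(true,43),(false,44),(true,44),(true,45),(false,46),(true,46),(true,47),(false,4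9),(true,49),(false,50),(true,50),(true,51),(false,52),(true,52),(false,53),(true,53),(false,54),(true,55),(true,57),(false,58),(true,58),(false,59),(true,59),(true,60),(false,61),(true,61),(true,62),(false,64),(true,64),(true,65),(false,67),(true,67),(true,68),(false,69),(true,69),(true,70),(false,72),(true,72),(false,73),(true,73),(true,74),(false,75),(true,75),(false,76),(true,76),(false,77),(true,78),(true,80),(false,81),(true,81),(false,82),(true,82),(true,83),(false,84),(true,84),(false,86),(true,86),(false,87),(true,87),(true,88),(false,89),(true,89),(true,90),(false,92),(true,92),(false,93),(true,93),(true,94),(false,95),(true,95),(false,96),(true,96),(true,97),(false,98),(true,98),(true,99),(false,101),(true,101),(false,102),(true,102),(true,103),(false,104),(true,104),(false,105),(true,105),(false,106),(true,107),(true,1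09),(false,110),(true,110),(true,111),(true,112),(false,113),(true,113),(false,115),(true,115),(false,116),(true,116),(true,117),(false,118),(true,118),(true,119),(false,121),(true,121),(false,123),(true,123),(false,125),(true,125),(true,126),(false,128),(false,129),(true,129),(true,130),(false,131),(true,131),(false,132),(true,132),(false,133),(true,134),(true,136),(false,137),(true,137),(false,138),(true,138),(true,139),(false,141),(true,141),(false,142),(true,142),(true,143),(false,144),(true,144),(false,145),(true,145),(false,146),(true,147),(true,149),(false,150),(true,150),(true,151),(true,152),(false,153),(true,153),(false,155),(true,155),(false,156),(true,156),(true,157),(true,158),(false,160),(true,160),(false,162),(true,162),(false,164),(true,164),(true,165),(false,167),(false,168),(true,168),(true,169),(false,170),(true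,170),(false,171),(false,172),(true,172),(false,175),(true,175),(true,176),(false,177),(false,178),(true,179),(true,181),(false,182),(true,182),(true,184),(false,185),(true,185),(false,187),(true,187),(false,188),(true,188),(true,189),(false,190),(true,191),(true,193),(false,194),(true,194),(true,196),(true,198),(false,199),(true,199),(true,200),(true,201),(false,202),(false,204),(true,204),(false,205),(true,205),(true,206),(true,207),(false,209),(true,209),(false,211),(true,211),(false,213),(true,213),(true,214),(false,218),(false,219),(true,219),(false,222),(true,222),(true,223),(false,224),(false,225),(false,229),(false,231),(true,231),(true,234),(true,236),(true,237),(false,239),(true,239),(false,240),(true,241),(true,243),(false,245),(true,245),(true,248),(false,250),(true,251),(false,252),(true,252),(true,253),(true,254),(true,256),(false,257),(true,257),(true,259),(false,261),(true,261),(false,262),(true,262),(true,264),(true,265),(false,269),(false,270),(true,270),(false,273),(true,273),(true,274),(true,276),(true,279),(true,281),(true,282),(false,283),(false,285),(false,291),(true,291),(false,293),(true,296),(false,297),(false,299),(true,299),(true,301),(true,311),(true,317),(false,319)]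

end Cfsg.Agent.H61.PSUThree
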