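import Mathlib

/-!
# A redundant Sylow subgroup of `GL_p(q)` when `p` exactly divides `q - 1`
-/

set_option autoImplicit false
set_option linter.all false

namespace Cfsg.Agent.H61

open Matrix Finset

variable {F : Type*} [Field F] {p : ℕ}

/-- The monomial matrix with shift `s` and entries `d`. -/
def shiftMat [NeZero p] (s : Fin p) (d : Fin p → F) : Matrix (Fin p) (Fin p) F :=
  fun i j => if i = j + s then d i else 0

theorem shiftMat_mul [NeZero p] (s t : Fin p) (d e : Fin p → F) :
    shiftMat s d * shiftMat t e = shiftMat (s + t) (fun i => d i * e (i - s)) := by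
  ext i k
  rw [Matrix.mul_apply, Finset.sum_eq_single (i - s)]
  · simp only [shiftMat, sub_add_cancel, if_true]
    by_cases h : i = k + (s + t)
    · rw [if_pos h, if_pos (by rw [h]; abel)]
    · rw [if_neg h, if_neg (fun h' => h (by rw [← sub_add_cancel i s, h']; abel)), mul_zero]
  · intro j _ hj
    simp only [shiftMat]
    rw [if_neg (fun h => hj (by rw [h]; abel)), zero_mul]
  · simp

theorem shiftMat_zero_one [NeZero p] : shiftMat (0 : Fin p) (fun _ => (1 : F)) = 1 := by
  ext i j
  simp [shiftMat, Matrix.one_apply]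

theorem shiftMat_zero_apply [NeZero p] (d : Fin p → F) (i j : Fin p) :
    shiftMat (0 : Fin p) d i j = if i = j then d i else 0 := by
  simp [shiftMat]

theorem shiftMat_pow [NeZero p] (s : Fin p) (d : Fin p → F) (k : ℕ) :
    shiftMat s d ^ k = shiftMat (k • s) (fun i => ∏ j ∈ range k, d (i - j • s)) := by
  induction k with
  | zero => simp [shiftMat_zero_one]
  | succ k ih =>
    rw [pow_succ, ih, shiftMat_mul, succ_nsmul]
    simp [Finset.prod_range_succ]

variable [hp : Fact p.Prime]

local instance instNeZeroPrime : NeZero p := ⟨hp.out.ne_zero⟩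

theorem addOrderOf_eq_of_ne_zero {s : Fin p} (hs : s ≠ 0) : addOrderOf s = p := by
  have h : addOrderOf s ∣ p := by simpa using addOrderOf_dvd_natCard s
  exact (hp.out.eq_one_or_self_of_dvd _ h).resolve_left (fun h1 => hs (AddMonoid.addOrderOf_eq_one_iff.mp h1))

theorem nsmul_ne_zero_of_lt {s : Fin p} (hs : s ≠ 0) {k : ℕ} (h0 : 0 < k) (hk : k < p) :
    k • s ≠ 0 := fun h => by
  have := Nat.le_of_dvd h0 (addOrderOf_dvd_iff_nsmul_eq_zero.mpr h)
  rw [addOrderOf_eq_of_ne_zero hs] at this
  omega

theorem prime_nsmul_eq_zero (s : Fin p) : p • s = 0 := by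
  by_cases hs : s = 0
  · simp [hs]
  · exact addOrderOf_dvd_iff_nsmul_eq_zero.mp (addOrderOf_eq_of_ne_zero hs).dvd

theorem shiftMat_pow_prime {s : Fin p} (hs : s ≠ 0) (d : Fin p → F) :
    shiftMat s d ^ p = (∏ i, d i) • (1 : Matrix (Fin p) (Fin p) F) := by
  rw [shiftMat_pow, prime_nsmul_eq_zero]
  ext i j
  rw [shiftMat_zero_apply, Matrix.smul_apply, Matrix.one_apply]
  by_cases hij : i = j
  · rw [if_pos hij, if_pos hij, smul_eq_mul, mul_one]
    refine Finset.prod_bij (fun k _ => i - k • s) (fun k _ => mem_univ _) ?_ ?_ (fun k _ => rfl)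
    · intro a ha b hb hab
      have h : a • s = b • s := sub_right_injective hab
      have := nsmul_eq_nsmul_iff_modEq.mp h
      rw [addOrderOf_eq_of_ne_zero hs, Nat.ModEq, Nat.mod_eq_of_lt (mem_range.mp ha),
        Nat.mod_eq_of_lt (mem_range.mp hb)] at this
      exact this
    · intro b _
      have hinj : Function.Injective fun k : Fin p => i - (k : ℕ) • s := by
        intro a b hab
        have h : (a : ℕ) • s = (b : ℕ) • s := sub_right_injective hab
        have := nsmul_eq_nsmul_iff_modEq.mp h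
        rw [addOrderOf_eq_of_ne_zero hs, Nat.ModEq, Nat.mod_eq_of_lt a.2, Nat.mod_eq_of_lt b.2] at this
        exact Fin.ext this
      obtain ⟨k, hk⟩ := (Finite.injective_iff_surjective.mp hinj) b
      exact ⟨k, mem_range.mpr k.2, hk⟩
  · rw [if_neg hij, if_neg hij, smul_zero]

/-- The group of monomial matrices with cyclic shifts and entries `p`-th roots of unity. -/
noncomputable def wreathGL : Subgroup (GL (Fin p) F) where
  carrier := {g | ∃ (s : Fin p) (d : Fin p → F), (∀ i, d i ^ p = 1) ∧
    (g : Matrix (Fin p) (Fin p) F) = shiftMat s d}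
  one_mem' := ⟨0, fun _ => 1, by simp, by rw [shiftMat_zero_one]; rfl⟩
  mul_mem' := by
    rintro a b ⟨s, d, hd, ha⟩ ⟨t, e, he, hb⟩
    exact ⟨s + t, fun i => d i * e (i - s), fun i => by rw [mul_pow, hd, he, one_mul],
      by rw [Units.val_mul, ha, hb, shiftMat_mul]⟩
  inv_mem' := by
    rintro a ⟨s, d, hd, ha⟩
    refine ⟨-s, fun i => (d (i + s))⁻¹, fun i => by rw [inv_pow, hd, inv_one], ?_⟩
    refine Units.inv_eq_of_mul_eq_one_right ?_
    rw [ha, shiftMat_mul, add_neg_cancel, ← shiftMat_zero_one]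
    congr 1
    funext i
    rw [sub_add_cancel, mul_inv_cancel₀]
    intro h0
    have := hd i
    rw [h0, zero_pow hp.out.ne_zero] at this
    exact zero_ne_one this

theorem mem_wreathGL {g : GL (Fin p) F} :
    g ∈ wreathGL (p := p) ↔ ∃ (s : Fin p) (d : Fin p → F), (∀ i, d i ^ p = 1) ∧
      (g : Matrix (Fin p) (Fin p) F) = shiftMat s d := Iff.rfl

/-- Exact power of `p` in the order of `GL_p(F)`. -/
theorem factorization_card_GL [Fintype F] (hp2 : p ≠ 2) (h1 : p ∣ Fintype.card F - 1)
    (h2 : ¬ p ^ 2 ∣ Fintype.card F - 1) :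
    (Nat.card (GL (Fin p) F)).factorization p = p + 1 := by
  set q := Fintype.card F
  have hq : 2 ≤ q := Fintype.one_lt_card
  have hpq : ¬ p ∣ q := fun h => hp.out.not_dvd_one (by
    have := Nat.dvd_sub h h1
    rwa [show q - (q - 1) = 1 by omega] at this)
  have hv1 : padicValNat p (q - 1) = 1 := by
    haveI := hp
    refine le_antisymm ?_ (one_le_padicValNat_of_dvd (by omega) h1)
    by_contra hh
    exact h2 ((padicValNat_dvd_iff_le (by omega)).mpr (by omega))
  have hterm : ∀ i : Fin p, (q ^ p - q ^ (i : ℕ)).factorization p = 1 + padicValNat p (p - (i : ℕ)) := by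
    intro i
    have hi := i.2
    have e : q ^ p - q ^ (i : ℕ) = q ^ (i : ℕ) * (q ^ (p - (i : ℕ)) - 1) := by
      rw [Nat.mul_sub, ← pow_add, mul_one, Nat.add_sub_cancel' hi.le]
    have hpos : q ^ (p - (i : ℕ)) - 1 ≠ 0 := by
      have : 2 ≤ q ^ (p - (i : ℕ)) := le_trans hq (Nat.le_self_pow (by omega) q)
      omega
    rw [e, Nat.factorization_mul (pow_ne_zero _ (by omega)) hpos, Finsupp.add_apply,
      Nat.factorization_eq_zero_of_not_dvd (fun h => hpq (hp.out.dvd_of_dvd_pow h)), zero_add,
      Nat.factorization_def _ hp.out]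
    have := padicValNat.pow_sub_pow (hp := hp) (x := q) (y := 1) (hp.out.odd_of_ne_two hp2)
      (by omega) h1 hpq (n := p - (i : ℕ)) (by omega)
    rw [one_pow, hv1] at this
    exact this
  rw [Matrix.card_GL_field, Nat.factorization_prod_apply]
  · rw [Finset.sum_congr rfl fun i _ => hterm i, Finset.sum_add_distrib, Finset.sum_const,
      Finset.card_univ, Fintype.card_fin, smul_eq_mul, mul_one]
    congr 1
    rw [Finset.sum_eq_single (0 : Fin p)]
    · simp
    · intro i _ hi
      refine padicValNat.eq_zero_of_not_dvd fun h => ?_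
      have h0 : 0 < p - (i : ℕ) := by omega
      have := Nat.le_of_dvd h0 h
      exact hi (Fin.ext (show (i : ℕ) = 0 by omega))
    · simp
  · intro i _
    have := i.2
    exact Nat.sub_ne_zero_of_lt (Nat.pow_lt_pow_right hq this)

theorem wreath_isPGroup : IsPGroup p (wreathGL (F := F) (p := p)) := by
  intro g
  obtain ⟨s, d, hd, hg⟩ := mem_wreathGL.mp g.2
  refine ⟨2, Subtype.ext (Units.ext ?_)⟩
  rw [SubmonoidClass.coe_pow, Units.val_pow_eq_pow_val, hg, pow_two, pow_mul]
  by_cases hs : s = 0
  · subst hs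
    have : shiftMat (0 : Fin p) d ^ p = 1 := by
      rw [shiftMat_pow, ← shiftMat_zero_one, smul_zero]
      congr 1
      funext i
      simp [hd]
    rw [this, one_pow]; rfl
  · rw [shiftMat_pow_prime hs, smul_pow, one_pow, ← Finset.prod_pow,
      Finset.prod_congr rfl (fun i _ => hd i), Finset.prod_const_one, one_smul]
    rfl

/-- The monomial group is a full Sylow subgroup. -/
theorem exists_sylow_eq_wreath [Fintype F] (hp2 : p ≠ 2) (h1 : p ∣ Fintype.card F - 1)
    (h2 : ¬ p ^ 2 ∣ Fintype.card F - 1) :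
    ∃ Q : Sylow p (GL (Fin p) F), (Q : Subgroup (GL (Fin p) F)) = wreathGL := by
  classical
  obtain ⟨ζ, hζ⟩ : ∃ ζ : Fˣ, orderOf ζ = p := by
    refine exists_prime_orderOf_dvd_card' p ?_
    rwa [Nat.card_eq_fintype_card, Fintype.card_units]
  let f : Fin p × (Fin p → Fin p) → GL (Fin p) F := fun z =>
    Matrix.GeneralLinearGroup.mkOfDetNeZero (shiftMat z.1 fun i => ((ζ ^ (z.2 i : ℕ) : Fˣ) : F)) (by
      intro hdet
      have hz : ∀ i, (((ζ ^ (z.2 i : ℕ) : Fˣ) : F)) ^ p = 1 := fun i => by
        rw [← Units.val_pow_eq_pow_val, ← pow_mul, mul_comm, pow_mul,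
          orderOf_dvd_iff_pow_eq_one.mp hζ.dvd, one_pow, Units.val_one]
      have hinv : shiftMat z.1 (fun i => ((ζ ^ (z.2 i : ℕ) : Fˣ) : F)) *
          shiftMat (-z.1) (fun i => (((ζ ^ (z.2 (i + z.1) : ℕ))⁻¹ : Fˣ) : F)) = 1 := by
        rw [shiftMat_mul, add_neg_cancel, ← shiftMat_zero_one]
        congr 1
        funext i
        rw [sub_add_cancel, ← Units.val_mul, mul_inv_cancel, Units.val_one]
      have := congrArg Matrix.det hinv
      rw [Matrix.det_mul, hdet, zero_mul, Matrix.det_one] at this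
      exact zero_ne_one this)
  have hf : Function.Injective f := by
    rintro ⟨s, a⟩ ⟨t, b⟩ h
    have hM : shiftMat s (fun i => ((ζ ^ (a i : ℕ) : Fˣ) : F)) =
        shiftMat t (fun i => ((ζ ^ (b i : ℕ) : Fˣ) : F)) := congrArg Units.val h
    have hst : s = t := by
      have := congrFun (congrFun hM (0 + s)) 0
      simp only [shiftMat, if_true] at this
      by_contra hne
      rw [if_neg (fun e => hne (by simpa using e))] at this
      exact Units.ne_zero _ this
    subst hst
    refine Prod.ext rfl (funext fun i => ?_)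
    have := congrFun (congrFun hM i) (i - s)
    simp only [shiftMat, sub_add_cancel, if_true] at this
    have h' := pow_injOn_Iio_orderOf (by simp [hζ]) (by simp [hζ]) (Units.ext this)
    exact Fin.ext h'
  have hcard : p ^ (p + 1) ≤ Nat.card (wreathGL (F := F) (p := p)) := by
    let g : Fin p × (Fin p → Fin p) → (wreathGL (F := F) (p := p)) := fun z =>
      ⟨f z, z.1, fun i => ((ζ ^ (z.2 i : ℕ) : Fˣ) : F), fun i => by
        rw [← Units.val_pow_eq_pow_val, ← pow_mul, mul_comm, pow_mul,
          orderOf_dvd_iff_pow_eq_one.mp hζ.dvd, one_pow, Units.val_one], rfl⟩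
    have := Nat.card_le_card_of_injective g fun a b h => hf (congrArg Subtype.val h)
    simpa [Nat.card_eq_fintype_card, pow_succ'] using this
  obtain ⟨Q, hQ⟩ := (wreath_isPGroup (F := F) (p := p)).exists_le_sylow
  refine ⟨Q, (Subgroup.eq_of_le_of_card_ge hQ ?_).symm⟩
  rw [Q.card_eq_multiplicity, factorization_card_GL hp2 h1 h2]
  exact hcard

/-- A matrix moving a coordinate axis off the axes does not normalise the monomial group. -/
theorem conj_wreath_ne [Fintype F] (hp2 : p ≠ 2) (h1 : p ∣ Fintype.card F - 1)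
    (g : GL (Fin p) F) {a k k' : Fin p} (hk : (g : Matrix (Fin p) (Fin p) F) k a ≠ 0)
    (hk' : (g : Matrix (Fin p) (Fin p) F) k' a ≠ 0) (hne : k ≠ k') :
    wreathGL.map (MulAut.conj g).toMonoidHom ≠ wreathGL := by
  classical
  intro heq
  obtain ⟨ζ, hζ⟩ : ∃ ζ : Fˣ, orderOf ζ = p := by
    refine exists_prime_orderOf_dvd_card' p ?_
    rwa [Nat.card_eq_fintype_card, Fintype.card_units]
  have hζ1 : (ζ : F) - 1 ≠ 0 := sub_ne_zero.mpr fun h => by
    rw [Units.val_eq_one] at h
    rw [h, orderOf_one] at hζ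
    exact hp.out.one_lt.ne hζ
  set e : Fin p → F := fun i => if i = a then (ζ : F) else 1
  have he : ∀ i, e i ^ p = 1 := fun i => by
    simp only [e]
    split_ifs
    · rw [← Units.val_pow_eq_pow_val, ← hζ, pow_orderOf_eq_one, Units.val_one]
    · rw [one_pow]
  have he0 : ∀ i, e i ≠ 0 := fun i => by
    intro h0; have := he i; rw [h0, zero_pow hp.out.ne_zero] at this; exact zero_ne_one this
  have hdetE : (shiftMat (0 : Fin p) e).det ≠ 0 := by
    rw [show shiftMat (0 : Fin p) e = Matrix.diagonal e by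
      ext i j; rw [shiftMat_zero_apply, Matrix.diagonal_apply], Matrix.det_diagonal]
    exact Finset.prod_ne_zero_iff.mpr fun i _ => he0 i
  set E := Matrix.GeneralLinearGroup.mkOfDetNeZero _ hdetE
  obtain ⟨s, d, hd, hD⟩ := (heq ▸ Subgroup.mem_map_of_mem (MulAut.conj g).toMonoidHom
    (⟨0, e, he, rfl⟩ : E ∈ wreathGL) : (MulAut.conj g).toMonoidHom E ∈ wreathGL)
  -- entries of `g (E - 1) g⁻¹`
  have hentry : ∀ i j, shiftMat s d i j - (1 : Matrix (Fin p) (Fin p) F) i j =
      ((g : Matrix (Fin p) (Fin p) F) i a * ((ζ : F) - 1)) * ((g⁻¹ : GL (Fin p) F) : Matrix (Fin p) (Fin p) F) a j := by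
    intro i j
    have h3 : shiftMat s d - 1 = (g : Matrix (Fin p) (Fin p) F) * (shiftMat (0 : Fin p) e - 1) *
        ((g⁻¹ : GL (Fin p) F) : Matrix (Fin p) (Fin p) F) := by
      rw [Matrix.mul_sub, Matrix.sub_mul, mul_one, ← Units.val_mul g g⁻¹, mul_inv_cancel,
        Units.val_one, ← hD]
      rfl
    rw [← Matrix.sub_apply, h3, Matrix.mul_apply, Finset.sum_eq_single a]
    · congr 1
      rw [Matrix.mul_apply, Finset.sum_eq_single a]
      · simp [shiftMat, e]
      · intro b _ hb
        simp [shiftMat, e, hb, Matrix.one_apply]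
      · simp
    · intro b _ hb
      rw [Matrix.mul_apply, Finset.sum_eq_zero, zero_mul]
      intro c _
      by_cases hc : c = b
      · subst hc; simp [shiftMat, e, hb]
      · simp [shiftMat, e, hc, Matrix.one_apply]
    · simp
  set h := ((g⁻¹ : GL (Fin p) F) : Matrix (Fin p) (Fin p) F)
  have hgg : ∑ i, h a i * (g : Matrix (Fin p) (Fin p) F) i a = 1 := by
    have := congrFun (congrFun (congrArg (fun u : GL (Fin p) F => (u : Matrix (Fin p) (Fin p) F))
      (inv_mul_cancel g)) a) a
    change (h * (g : Matrix (Fin p) (Fin p) F)) a a = (1 : Matrix (Fin p) (Fin p) F) a a at this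
    rw [Matrix.mul_apply, Matrix.one_apply_eq] at this
    exact this
  obtain ⟨m, -, hm⟩ := Finset.exists_ne_zero_of_sum_ne_zero (hgg.symm ▸ one_ne_zero)
  have hs0 : s = 0 := by
    by_contra hs
    -- the diagonal of `g E g⁻¹ - 1` would be `-1`
    have hall : ∀ i, (g : Matrix (Fin p) (Fin p) F) i a * ((ζ : F) - 1) * h a i = -1 := fun i => by
      rw [← hentry i i]
      simp [shiftMat, hs]
    obtain ⟨c, hc1, hc2⟩ : ∃ c : Fin p, c ≠ 0 ∧ c ≠ s := by
      by_contra hno
      push Not at hno
      have hsub : (Finset.univ : Finset (Fin p)) ⊆ {0, s} := fun c _ => by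
        by_cases h0 : c = 0
        · simp [h0]
        · simp [hno c h0]
      have := Finset.card_le_card hsub
      rw [Finset.card_univ, Fintype.card_fin] at this
      have h3 := hp.out.two_le
      have : ({0, s} : Finset (Fin p)).card ≤ 2 := Finset.card_le_two
      omega
    have := hentry c 0
    rw [shiftMat, if_neg (by simpa using hc2), Matrix.one_apply, if_neg hc1, sub_zero] at this
    have hc' := hall c
    have h0' := hall 0
    rcases mul_eq_zero.mp this.symm with h | h
    · rw [h, zero_mul] at hc'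
      exact (neg_ne_zero.mpr one_ne_zero) hc'.symm
    · rw [h, mul_zero] at h0'
      exact (neg_ne_zero.mpr one_ne_zero) h0'.symm
  have hzero : ∀ i, i ≠ m → (g : Matrix (Fin p) (Fin p) F) i a = 0 := by
    intro i hi
    have := hentry i m
    rw [hs0, shiftMat_zero_apply, if_neg hi, Matrix.one_apply, if_neg hi, sub_zero] at this
    rcases mul_eq_zero.mp this.symm with h' | h'
    · exact (mul_eq_zero.mp h').resolve_right hζ1
    · exact absurd (by rw [h', zero_mul]) hm
  by_cases hkm : k = m
  · exact hk' (hzero k' (hkm ▸ Ne.symm hne))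
  · exact hk (hzero k hkm)

/-- Every element of the monomial group lies in a different conjugate of it. -/
theorem exists_conj_mem [Fintype F] (hp2 : p ≠ 2) (h1 : p ∣ Fintype.card F - 1)
    {x : GL (Fin p) F} (hx : x ∈ wreathGL (p := p)) :
    ∃ g : GL (Fin p) F, wreathGL.map (MulAut.conj g).toMonoidHom ≠ wreathGL ∧
      x ∈ wreathGL.map (MulAut.conj g).toMonoidHom := by
  classical
  obtain ⟨s, d, hd, hxM⟩ := mem_wreathGL.mp hx
  have hp3 : 3 ≤ p := by have := hp.out.two_le; omega
  have hd0 : ∀ i, d i ≠ 0 := fun i h => by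
    have := hd i; rw [h, zero_pow hp.out.ne_zero] at this; exact zero_ne_one this
  have hmem : ∀ g : GL (Fin p) F, g⁻¹ * x * g ∈ wreathGL →
      x ∈ wreathGL.map (MulAut.conj g).toMonoidHom := fun g hg =>
    ⟨_, hg, by simp [mul_assoc]⟩
  have hcomm : ∀ g : GL (Fin p) F, g * x = x * g → g⁻¹ * x * g = x := fun g hg => by
    rw [mul_assoc, ← hg, inv_mul_cancel_left]
  by_cases hs : s = 0
  · subst hs
    by_cases hinj : Function.Injective d
    · -- Vandermonde
      set V : Matrix (Fin p) (Fin p) F := Matrix.vandermonde d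
      have hV : V.det ≠ 0 := Matrix.det_vandermonde_ne_zero_iff.mpr hinj
      set g := Matrix.GeneralLinearGroup.mkOfDetNeZero V hV
      have h10 : (1 : Fin p) ≠ 0 := by
        intro h; have := congrArg Fin.val h; simp [Fin.val_one', Nat.mod_eq_of_lt hp.out.one_lt] at this
      refine ⟨g, conj_wreath_ne hp2 h1 g (a := 0) (k := 0) (k' := 1) ?_ ?_ h10.symm, hmem g ?_⟩
      · show V 0 0 ≠ 0; simp [V]
      · show V 1 0 ≠ 0; simp [V]
      refine ⟨1, fun _ => 1, fun _ => one_pow p, ?_⟩
      have hkey : (x : Matrix (Fin p) (Fin p) F) * V = V * shiftMat 1 fun _ => 1 := by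
        ext i j
        rw [hxM, Matrix.mul_apply, Finset.sum_eq_single i, shiftMat_zero_apply, if_pos rfl,
          Matrix.mul_apply, Finset.sum_eq_single (j + 1)]
        · simp only [shiftMat, if_true, mul_one, V, Matrix.vandermonde_apply]
          rw [← pow_succ', Fin.val_add, Fin.val_one', Nat.mod_eq_of_lt hp.out.one_lt,
            pow_eq_pow_mod _ (hd i)]
        · intro b _ hb
          simp [shiftMat, hb]
        · simp
        · intro b _ hb
          rw [shiftMat_zero_apply, if_neg (Ne.symm hb), zero_mul]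
        · simp
      show ((g⁻¹ * x * g : GL (Fin p) F) : Matrix (Fin p) (Fin p) F) = _
      rw [Units.val_mul, Units.val_mul, mul_assoc, show ((g : GL (Fin p) F) : Matrix (Fin p) (Fin p) F) = V from rfl,
        hkey, ← mul_assoc, show (V : Matrix (Fin p) (Fin p) F) = ((g : GL (Fin p) F) : Matrix _ _ F) from rfl,
        ← Units.val_mul, inv_mul_cancel, Units.val_one, one_mul]
    · simp only [Function.Injective, not_forall] at hinj
      obtain ⟨a, b, hab, hne⟩ := hinj
      set T : Matrix (Fin p) (Fin p) F := Matrix.transvection b a 1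
      have hT : T.det ≠ 0 := by simp [T, Matrix.det_transvection_of_ne _ _ (Ne.symm hne)]
      set g := Matrix.GeneralLinearGroup.mkOfDetNeZero T hT
      refine ⟨g, conj_wreath_ne hp2 h1 g (a := a) (k := a) (k' := b) ?_ ?_ hne, hmem g ?_⟩
      · show T a a ≠ 0; simp [T, Matrix.transvection, Matrix.single, Ne.symm hne]
      · show T b a ≠ 0; simp [T, Matrix.transvection, Matrix.single, Ne.symm hne]
      rw [hcomm g (Units.ext ?_)]
      · exact hx
      rw [Units.val_mul, Units.val_mul, show (g : Matrix (Fin p) (Fin p) F) = T from rfl, hxM,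
        show shiftMat (0 : Fin p) d = Matrix.diagonal d by
          ext i j; rw [shiftMat_zero_apply, Matrix.diagonal_apply]]
      simp only [T, Matrix.transvection, add_mul, mul_add, one_mul, mul_one]
      congr 1
      ext i j
      rw [Matrix.mul_diagonal, Matrix.diagonal_mul]
      by_cases h : i = b ∧ j = a
      · obtain ⟨rfl, rfl⟩ := h
        simp [Matrix.single, hab]
      · simp only [Matrix.single, Matrix.of_apply]
        rw [if_neg (fun h' => h ⟨h'.1.symm, h'.2.symm⟩)]
        simp
  · -- cyclic shift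
    set X := (x : Matrix (Fin p) (Fin p) F)
    set c := ∏ i, d i
    have hXp : X ^ p = c • (1 : Matrix (Fin p) (Fin p) F) := by
      simp only [X, hxM]; exact shiftMat_pow_prime hs d
    have hX00 : X 0 0 = 0 := by simp [X, hxM, shiftMat, Ne.symm hs]
    have hXs0 : X s 0 = d s := by simp [X, hxM, shiftMat]
    have hodd : Odd p := hp.out.odd_of_ne_two hp2
    by_cases hc : c + 1 = 0
    swap
    · -- `1 + x`
      have hinvM : (1 + X) * ((c + 1)⁻¹ • ∑ k ∈ range p, (-X) ^ k) = 1 := by
        rw [Matrix.mul_smul, show (1 + X) = 1 - (-X) by abel, mul_neg_geom_sum, hodd.neg_pow, hXp,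
          sub_neg_eq_add, show (1 : Matrix (Fin p) (Fin p) F) + c • 1 = (c + 1) • 1 by
            rw [add_smul, one_smul, add_comm], smul_smul, inv_mul_cancel₀ hc, one_smul]
      let g : GL (Fin p) F := Units.mk _ _ hinvM (mul_eq_one_comm.mp hinvM)
      refine ⟨g, conj_wreath_ne hp2 h1 g (a := 0) (k := 0) (k' := s) ?_ ?_ (Ne.symm hs), hmem g ?_⟩
      · show (1 + X) 0 0 ≠ 0; simp [hX00]
      · show (1 + X) s 0 ≠ 0; simp [hXs0, hs, hd0]
      rw [hcomm g (Units.ext ?_)]
      · exact hx
      show (1 + X) * X = X * (1 + X)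
      noncomm_ring
    -- `c = -1`, so `c = 1` and the characteristic is two
    have hc1 : c = 1 := by
      have h1' : c = -1 := eq_neg_of_add_eq_zero_left hc
      have h2' : c ^ p = 1 := by
        rw [show c = ∏ i, d i from rfl, ← Finset.prod_pow, Finset.prod_congr rfl fun i _ => hd i,
          Finset.prod_const_one]
      rw [h1', hodd.neg_one_pow] at h2'
      rw [h1', h2']
    have hpF : (p : F) ≠ 0 := by
      intro h0
      obtain ⟨ℓ, hℓ⟩ := CharP.exists F
      have hdvd : ℓ ∣ p := (CharP.cast_eq_zero_iff F ℓ p).mp h0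
      have h2 : (2 : F) = 0 := by rw [← hc, hc1]; norm_num
      have : ℓ ∣ 2 := (CharP.cast_eq_zero_iff F ℓ 2).mp (by exact_mod_cast h2)
      have hℓ1 : ℓ ≠ 1 := CharP.char_ne_one F ℓ
      rcases hp.out.eq_one_or_self_of_dvd ℓ hdvd with h | h
      · exact hℓ1 h
      · subst h; have := Nat.le_of_dvd two_pos this; omega
    -- `t = 1` works as `p + 1` vanishes only in characteristic dividing `p + 1`
    obtain ⟨t, ht0, ht1, ht2⟩ : ∃ t : F, t ≠ 0 ∧ 1 + t ≠ 0 ∧ 1 + t * (p : F) ≠ 0 := by
      have hq : 3 ≤ Fintype.card F := by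
        have := Nat.le_of_dvd (by have := Fintype.one_lt_card (α := F); omega) h1
        omega
      obtain ⟨t, -, ht⟩ := Finset.exists_mem_notMem_of_card_lt_card
        (s := ({0, -1} : Finset F)) (t := Finset.univ) (by
          rw [Finset.card_univ]; exact lt_of_le_of_lt Finset.card_le_two (by omega))
      have hpone : (p : F) = 1 := by
        have h2 : (2 : F) = 0 := by rw [← hc, hc1]; norm_num
        obtain ⟨k, hk⟩ := hodd
        rw [hk]; push_cast; rw [h2, zero_mul, zero_add]
      simp only [Finset.mem_insert, Finset.mem_singleton, not_or] at ht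
      have h1t : 1 + t ≠ 0 := fun h => ht.2 (by linear_combination h)
      exact ⟨t, ht.1, h1t, by rwa [hpone, mul_one]⟩
    set E : Matrix (Fin p) (Fin p) F := ∑ k ∈ range p, X ^ k with hE
    have hXE : X * E = E := by
      rw [hE, Finset.mul_sum]
      have := Finset.sum_range_succ' (fun k => X ^ k) p
      rw [Finset.sum_range_succ (fun k => X ^ k) p, hXp, hc1, one_smul, pow_zero] at this
      simp only [← pow_succ']
      exact (add_right_cancel this).symm
    have hEE : E * E = (p : F) • E := by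
      have hk : ∀ k, X ^ k * E = E := fun k => by
        induction k with
        | zero => simp
        | succ k ih => rw [pow_succ', mul_assoc, ih, hXE]
      conv_lhs => arg 1; rw [hE]
      rw [Finset.sum_mul, Finset.sum_congr rfl fun k _ => hk k, Finset.sum_const, Finset.card_range,
        Nat.cast_smul_eq_nsmul]
    set u := -t * (1 + t * (p : F))⁻¹
    have hinvM : (1 + t • E) * (1 + u • E) = 1 := by
      rw [add_mul, mul_add, mul_add, one_mul, one_mul, mul_one, Matrix.smul_mul, Matrix.mul_smul,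
        hEE, smul_smul, smul_smul, add_assoc, ← add_smul, ← add_smul]
      rw [show u + (t + t * u * (p : F)) = 0 by
        simp only [u]; field_simp; ring, zero_smul, add_zero]
    let g : GL (Fin p) F := Units.mk _ _ hinvM (mul_eq_one_comm.mp hinvM)
    have hEk : ∀ r : Fin p, ∀ k0 : ℕ, k0 < p → r = k0 • s → E r 0 = (X ^ k0) r 0 := by
      intro r k0 hk0 hr
      rw [hE, Matrix.sum_apply, Finset.sum_eq_single k0]
      · intro k hk hne
        simp only [X, hxM, shiftMat_pow, shiftMat, zero_add]
        rw [if_neg]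
        intro h
        have := nsmul_eq_nsmul_iff_modEq.mp (hr ▸ h : k0 • s = k • s)
        rw [addOrderOf_eq_of_ne_zero hs, Nat.ModEq, Nat.mod_eq_of_lt hk0,
          Nat.mod_eq_of_lt (mem_range.mp hk)] at this
        exact hne this.symm
      · intro h; exact absurd (mem_range.mpr hk0) h
    refine ⟨g, conj_wreath_ne hp2 h1 g (a := 0) (k := 0) (k' := s) ?_ ?_ (Ne.symm hs), hmem g ?_⟩
    · show (1 + t • E) 0 0 ≠ 0
      simp [hEk 0 0 hp.out.pos (by simp), ht1]
    · show (1 + t • E) s 0 ≠ 0
      simp [hEk s 1 hp.out.one_lt (by simp), hXs0, hs, hd0, ht0]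
    rw [hcomm g (Units.ext ?_)]
    · exact hx
    show (1 + t • E) * X = X * (1 + t • E)
    have hcE : E * X = X * E := Commute.eq (Commute.sum_left _ _ _ fun k _ => Commute.pow_self X k)
    rw [add_mul, mul_add, one_mul, mul_one, Matrix.smul_mul, Matrix.mul_smul, hcE]

theorem exists_redundant [Fintype F] (hp2 : p ≠ 2) (h1 : p ∣ Fintype.card F - 1)
    (h2 : ¬ p ^ 2 ∣ Fintype.card F - 1) :
    ∃ Q : Sylow p (GL (Fin p) F), ∀ x : GL (Fin p) F, (∃ k : ℕ, orderOf x = p ^ k) →
      ∃ P : Sylow p (GL (Fin p) F), P ≠ Q ∧ x ∈ P := by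
  obtain ⟨Q, hQ⟩ := exists_sylow_eq_wreath hp2 h1 h2
  refine ⟨Q, fun x ⟨k, hk⟩ => ?_⟩
  by_cases hx : x ∈ (Q : Subgroup (GL (Fin p) F))
  · rw [hQ] at hx
    obtain ⟨g, hne, hmem⟩ := exists_conj_mem hp2 h1 hx
    have hp' : IsPGroup p (wreathGL.map (MulAut.conj g).toMonoidHom) := wreath_isPGroup.map _
    obtain ⟨P, hP⟩ := hp'.exists_le_sylow
    refine ⟨P, fun e => hne (Subgroup.eq_of_le_of_card_ge ?_ ?_), hP hmem⟩
    · rw [e, hQ] at hP
      exact hP
    · rw [Subgroup.card_map_of_injective (f := (MulAut.conj g).toMonoidHom) (MulAut.conj g).injective]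
  · obtain ⟨P, hP⟩ := (IsPGroup.of_card (p := p) (n := k) (G := Subgroup.zpowers x)
      (by rw [Nat.card_zpowers, hk])).exists_le_sylow
    exact ⟨P, fun e => hx (e ▸ hP (Subgroup.mem_zpowers x)), hP (Subgroup.mem_zpowers x)⟩

end Cfsg.Agent.H61
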